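import Mathlib.LinearAlgebra.ExteriorPower.Basis
import Mathlib.RingTheory.Flat.EquationalCriterion

/-!
# Exterior powers of flat modules are flat
-/

set_option autoImplicit false
set_option linter.style.haveILetI false

universe u

open Module

namespace Groth.Agent.OmegaFlat

variable {R : Type u} [CommRing R] {P M : Type u} [AddCommGroup P] [Module R P] [AddCommGroup M] [Module R M]

/-- The kernel of the exterior power of a surjection. -/
theorem mem_span_of_map_eq_zero (π : P →ₗ[R] M) (hπ : Function.Surjective π) (i : ℕ) (w : ⋀[R]^i P)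
    (hw : exteriorPower.map i π w = 0) :
    w ∈ Submodule.span R {z | ∃ v : Fin i → P, (∃ l, π (v l) = 0) ∧ exteriorPower.ιMulti R i v = z} := by
  classical
  set K := Submodule.span R {z | ∃ v : Fin i → P, (∃ l, π (v l) = 0) ∧ exteriorPower.ιMulti R i v = z} with hK
  choose s hs using hπ
  let ι := exteriorPower.ιMulti R i (M := P)
  have hkill : ∀ (v : Fin i → P) l, π (v l) = 0 → K.mkQ (ι v) = 0 := fun v l h =>
    (Submodule.Quotient.mk_eq_zero K).2 (Submodule.subset_span ⟨v, ⟨l, h⟩, rfl⟩)
  have hcomp : ∀ (m : Fin i → M) l (b : M), s ∘ Function.update m l b = Function.update (s ∘ m) l (s b) :=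
    fun m l b => Function.comp_update s m l b
  let f : M [⋀^Fin i]→ₗ[R] (↥(⋀[R]^i P) ⧸ K) :=
    { toFun := fun m => K.mkQ (ι (s ∘ m))
      map_update_add' := fun {inst} m l a b => by
        cases Subsingleton.elim inst (instDecidableEqFin i)
        rw [hcomp, hcomp, hcomp, show s (a + b) = (s a + s b) + (s (a + b) - (s a + s b)) by abel,
          AlternatingMap.map_update_add, AlternatingMap.map_update_add, map_add, map_add,
          hkill (Function.update (s ∘ m) l (s (a + b) - (s a + s b))) l (by simp [hs]), add_zero]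
      map_update_smul' := fun {inst} m l r a => by
        cases Subsingleton.elim inst (instDecidableEqFin i)
        rw [hcomp, hcomp, show s (r • a) = r • s a + (s (r • a) - r • s a) by abel,
          AlternatingMap.map_update_add, AlternatingMap.map_update_smul, map_add, map_smul,
          hkill (Function.update (s ∘ m) l (s (r • a) - r • s a)) l (by simp [hs]), add_zero]
      map_eq_zero_of_eq' := fun m a b hab hne => by
        rw [AlternatingMap.map_eq_zero_of_eq ι (s ∘ m) (congrArg s hab) hne, map_zero] }
  have hf : ∀ v : Fin i → P, f (π ∘ v) = K.mkQ (ι v) := fun v => by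
    have key : ∀ t : Finset (Fin i), K.mkQ (ι (t.piecewise (fun l => s (π (v l))) v)) = K.mkQ (ι v) := fun t => by
      induction t using Finset.induction_on with
      | empty => simp
      | insert a t ha ih =>
        rw [← ih, Finset.piecewise_insert]
        set u := t.piecewise (fun l => s (π (v l))) v
        have hu : u a = v a := Finset.piecewise_eq_of_notMem _ _ _ ha
        rw [show s (π (v a)) = v a + (s (π (v a)) - v a) by abel, AlternatingMap.map_update_add, map_add,
          hkill (Function.update u a (s (π (v a)) - v a)) a (by simp [hs]), add_zero, ← hu, Function.update_eq_self]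
    have := key Finset.univ
    rw [Finset.piecewise_univ] at this
    exact this
  have h1 : (exteriorPower.alternatingMapLinearEquiv f).comp (exteriorPower.map i π) = K.mkQ := by
    refine exteriorPower.linearMap_ext (AlternatingMap.ext fun v => ?_)
    simp only [LinearMap.compAlternatingMap_apply, LinearMap.comp_apply, exteriorPower.map_apply_ιMulti,
      exteriorPower.alternatingMapLinearEquiv_apply_ιMulti, hf]
    rfl
  rw [← Submodule.Quotient.mk_eq_zero K, ← Submodule.mkQ_apply, ← h1, LinearMap.comp_apply, hw, map_zero]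

/-- Elements in the kernel are killed by maps killing finitely many elements of the kernel. -/
theorem exists_finset_kill (π : P →ₗ[R] M) (i : ℕ) (w : ⋀[R]^i P)
    (hw : w ∈ Submodule.span R {z | ∃ v : Fin i → P, (∃ l, π (v l) = 0) ∧ exteriorPower.ιMulti R i v = z}) :
    ∃ T : Finset P, (∀ t ∈ T, π t = 0) ∧ ∀ (N : Type u) [AddCommGroup N] [Module R N] (a : P →ₗ[R] N),
      (∀ t ∈ T, a t = 0) → exteriorPower.map i a w = 0 := by
  classical
  induction hw using Submodule.span_induction with
  | mem z hz =>
    obtain ⟨v, ⟨l, hl⟩, rfl⟩ := hz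
    refine ⟨{v l}, by simpa using hl, fun N _ _ a ha => ?_⟩
    rw [exteriorPower.map_apply_ιMulti]
    exact AlternatingMap.map_coord_zero _ l (ha (v l) (Finset.mem_singleton_self _))
  | zero => exact ⟨∅, by simp, fun _ _ _ a _ => map_zero _⟩
  | add x y _ _ hx hy =>
    obtain ⟨T, hT, hT'⟩ := hx
    obtain ⟨U, hU, hU'⟩ := hy
    refine ⟨T ∪ U, fun t ht => (Finset.mem_union.1 ht).elim (hT t) (hU t), fun N _ _ a ha => ?_⟩
    rw [map_add, hT' N a fun t ht => ha t (Finset.mem_union_left _ ht),
      hU' N a fun t ht => ha t (Finset.mem_union_right _ ht), add_zero]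
  | smul r x _ hx =>
    obtain ⟨T, hT, hT'⟩ := hx
    exact ⟨T, hT, fun N _ _ a ha => by rw [map_smul, hT' N a ha, smul_zero]⟩

/-- The projection of a free module to the part supported on a finite set. -/
noncomputable def res (S : Finset M) : (M →₀ R) →ₗ[R] (S →₀ R) := Finsupp.lcomapDomain Subtype.val Subtype.val_injective

/-- Elements of the exterior power of a free module live on finitely many basis vectors. -/
theorem exists_support (i : ℕ) (w : ⋀[R]^i (M →₀ R)) :
    ∃ S : Finset M, ∀ S' : Finset M, S ⊆ S' →
      exteriorPower.map i ((Finsupp.lmapDomain R R (Subtype.val : S' → M)).comp (res S')) w = w := by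
  classical
  have hw : w ∈ Submodule.span R (Set.range (exteriorPower.ιMulti R i (M := M →₀ R))) := by
    rw [exteriorPower.ιMulti_span]; trivial
  induction hw using Submodule.span_induction with
  | mem z hz =>
    obtain ⟨v, rfl⟩ := hz
    refine ⟨Finset.univ.biUnion fun l => (v l).support, fun S' hS' => ?_⟩
    rw [exteriorPower.map_apply_ιMulti]
    congr 1
    funext l
    refine Finsupp.mapDomain_comapDomain _ Subtype.val_injective _ fun m hm => ?_
    exact ⟨⟨m, hS' (Finset.mem_biUnion.2 ⟨l, Finset.mem_univ l, hm⟩)⟩, rfl⟩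
  | zero => exact ⟨∅, fun _ _ => map_zero _⟩
  | add x y _ _ hx hy =>
    obtain ⟨S, hS⟩ := hx
    obtain ⟨T, hT⟩ := hy
    exact ⟨S ∪ T, fun S' h => by
      rw [map_add, hS S' (Finset.union_subset_left h), hT S' (Finset.union_subset_right h)]⟩
  | smul r x _ hx =>
    obtain ⟨S, hS⟩ := hx
    exact ⟨S, fun S' h => by rw [map_smul, hS S' h]⟩

/-- Exterior powers of flat modules are flat. -/
theorem flat_exteriorPower [Module.Flat R M] (i : ℕ) : Module.Flat R (⋀[R]^i M) := by
  classical
  refine Module.Flat.of_forall_isTrivialRelation fun {l f z} hfz => ?_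
  let π : (M →₀ R) →ₗ[R] M := Finsupp.linearCombination R id
  have hπ : Function.Surjective π := Finsupp.linearCombination_id_surjective R M
  choose w hw using fun j => exteriorPower.map_surjective (n := i) hπ (z j)
  have h0 : exteriorPower.map i π (∑ j, f j • w j) = 0 := by
    rw [map_sum, ← hfz]
    exact Finset.sum_congr rfl fun j _ => by rw [map_smul, hw]
  obtain ⟨T, hT, hT'⟩ := exists_finset_kill π i _ (mem_span_of_map_eq_zero π hπ i _ h0)
  choose Sw hSw using fun j => exists_support i (w j)
  let S : Finset M := Finset.univ.biUnion Sw ∪ T.biUnion Finsupp.support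
  let r := res (R := R) S
  let e := Finsupp.lmapDomain R R (Subtype.val : S → M)
  have hT0 : ∀ t ∈ T, π (e (r t)) = 0 := fun t ht => by
    rw [show e (r t) = t from Finsupp.mapDomain_comapDomain _ Subtype.val_injective _ fun m hm =>
      ⟨⟨m, Finset.mem_union_right _ (Finset.mem_biUnion.2 ⟨t, ht, hm⟩)⟩, rfl⟩]
    exact hT t ht
  let F : (T →₀ R) →ₗ[R] (S →₀ R) := Finsupp.linearCombination R fun t : T => r t.1
  obtain ⟨k, a, y, hy, ha⟩ := Module.Flat.exists_factorization_of_comp_eq_zero_of_free (f := F) (x := π.comp e)
    (Finsupp.lhom_ext fun t c => by simp [F, hT0 t.1 t.2])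
  have hrel : ∑ j, f j • exteriorPower.map i (a.comp r) (w j) = 0 := by
    rw [Finset.sum_congr rfl fun j _ => (map_smul (exteriorPower.map i (a.comp r)) (f j) (w j)).symm, ← map_sum]
    refine hT' _ (a.comp r) fun t ht => ?_
    have := LinearMap.congr_fun ha (Finsupp.single ⟨t, ht⟩ 1)
    simpa [F] using this
  obtain ⟨n, c, u, hu, hc⟩ := Module.Flat.isTrivialRelation_of_sum_smul_eq_zero hrel
  refine ⟨n, c, fun q => exteriorPower.map i y (u q), fun j => ?_, hc⟩
  have h1 : exteriorPower.map i y (exteriorPower.map i (a.comp r) (w j)) = z j := by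
    rw [← LinearMap.comp_apply, ← exteriorPower.map_comp, ← LinearMap.comp_assoc, ← hy, LinearMap.comp_assoc,
      exteriorPower.map_comp, LinearMap.comp_apply,
      hSw j S ((Finset.subset_biUnion_of_mem Sw (Finset.mem_univ j)).trans Finset.subset_union_left), hw]
  rw [← h1]
  refine (congrArg _ (hu j)).trans ((map_sum _ _ _).trans ?_)
  exact Finset.sum_congr rfl fun q _ => map_smul _ _ _

end Groth.Agent.OmegaFlat
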