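import Groth.Prelude.Def_Smoothing
import Mathlib.RingTheory.Kaehler.Basic
import Mathlib.RingTheory.Smooth.Basic
import Mathlib.RingTheory.Flat.EquationalCriterion
import Mathlib.RingTheory.FinitePresentation

/-!
# Differentials of ind-smooth algebras are flat
-/

set_option autoImplicit false
set_option linter.style.haveILetI false
set_option backward.isDefEq.respectTransparency false

universe u

open Module KaehlerDifferential

namespace Groth.Agent.OmegaFlat

variable {k A : Type u} [CommRing k] [CommRing A] [Algebra k A]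

/-- Formal differentials over a subalgebra, viewed over the algebra. -/
noncomputable def extend (D : Subalgebra k A) (c : D →₀ D) : A →₀ A :=
  (c.mapRange Subtype.val rfl).mapDomain Subtype.val

variable (D : Subalgebra k A)

theorem extend_single (x y : D) : extend D (Finsupp.single x y) = Finsupp.single (x : A) (y : A) := by
  simp [extend]

theorem extend_zero : extend D 0 = 0 := by simp [extend]

theorem extend_add (a b : D →₀ D) : extend D (a + b) = extend D a + extend D b := by
  rw [extend, Finsupp.mapRange_add (fun _ _ => rfl), Finsupp.mapDomain_add]; rfl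

theorem extend_smul (d : D) (a : D →₀ D) : extend D (d • a) = (d : A) • extend D a := by
  rw [extend, extend, ← Finsupp.mapDomain_smul]
  congr 1
  ext z
  rfl

theorem extend_injective : Function.Injective (extend D) :=
  (Finsupp.mapDomain_injective Subtype.val_injective).comp
    (Finsupp.mapRange_injective _ rfl Subtype.val_injective)

theorem exists_extend (g : A →₀ A) (hs : ∀ a ∈ g.support, a ∈ D) (hv : ∀ a, g a ∈ D) :
    ∃ g' : D →₀ D, extend D g' = g := by
  classical
  refine ⟨∑ a ∈ g.support.attach, Finsupp.single ⟨a.1, hs _ a.2⟩ ⟨g a.1, hv _⟩, ?_⟩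
  have h : ∀ s : Finset g.support, extend D (∑ a ∈ s, Finsupp.single ⟨a.1, hs _ a.2⟩ ⟨g a.1, hv _⟩) =
      ∑ a ∈ s, Finsupp.single a.1 (g a.1) := fun s => by
    induction s using Finset.induction_on with
    | empty => simpa using extend_zero D
    | insert a s ha ih => rw [Finset.sum_insert ha, Finset.sum_insert ha, extend_add, extend_single, ih]
  rw [h, Finset.sum_attach g.support (fun a => Finsupp.single a (g a))]
  exact Finsupp.sum_single g

theorem exists_finset_kerTotal (c : A →₀ A) (hc : c ∈ kerTotal k A) :
    ∃ T : Finset A, ∀ D : Subalgebra k A, (∀ a ∈ T, a ∈ D) → ∃ c' ∈ kerTotal k D, extend D c' = c := by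
  classical
  rw [kerTotal] at hc
  induction hc using Submodule.span_induction with
  | mem z hz =>
    rcases hz with (⟨⟨x, y⟩, rfl⟩ | ⟨⟨x, y⟩, rfl⟩) | ⟨x, rfl⟩
    · refine ⟨{x, y}, fun D hD => ?_⟩
      let x' : D := ⟨x, hD x (by simp)⟩
      let y' : D := ⟨y, hD y (by simp)⟩
      refine ⟨_, Submodule.subset_span (Or.inl (Or.inl ⟨(x', y'), rfl⟩)), ?_⟩
      apply eq_sub_of_add_eq
      rw [show Finsupp.single (x + y) (1 : A) = extend D (Finsupp.single (x' + y') 1) from (extend_single D (x' + y') 1).symm,
        ← extend_add, sub_add_cancel, extend_add, extend_single, extend_single]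
      rfl
    · refine ⟨{x, y}, fun D hD => ?_⟩
      let x' : D := ⟨x, hD x (by simp)⟩
      let y' : D := ⟨y, hD y (by simp)⟩
      refine ⟨_, Submodule.subset_span (Or.inl (Or.inr ⟨(x', y'), rfl⟩)), ?_⟩
      apply eq_sub_of_add_eq
      rw [show Finsupp.single (x * y) (1 : A) = extend D (Finsupp.single (x' * y') 1) from (extend_single D (x' * y') 1).symm,
        ← extend_add, sub_add_cancel, extend_add, extend_single, extend_single]
    · refine ⟨∅, fun D _ => ⟨_, Submodule.subset_span (Or.inr ⟨x, rfl⟩), ?_⟩⟩
      exact extend_single D _ _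
  | zero => exact ⟨∅, fun D _ => ⟨0, zero_mem _, extend_zero D⟩⟩
  | add a b _ _ ha hb =>
    obtain ⟨T, hT⟩ := ha
    obtain ⟨U, hU⟩ := hb
    refine ⟨T ∪ U, fun D hD => ?_⟩
    obtain ⟨a', ha', rfl⟩ := hT D fun t ht => hD t (Finset.mem_union_left _ ht)
    obtain ⟨b', hb', rfl⟩ := hU D fun t ht => hD t (Finset.mem_union_right _ ht)
    exact ⟨a' + b', add_mem ha' hb', extend_add D a' b'⟩
  | smul r a _ ha =>
    obtain ⟨T, hT⟩ := ha
    refine ⟨insert r T, fun D hD => ?_⟩
    obtain ⟨a', ha', rfl⟩ := hT D fun t ht => hD t (Finset.mem_insert_of_mem ht)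
    exact ⟨(⟨r, hD r (Finset.mem_insert_self _ _)⟩ : D) • a', Submodule.smul_mem _ _ ha', extend_smul D _ _⟩

/-- The module of differentials of an ind-smooth algebra over a Noetherian ring is flat. -/
theorem flat_kaehler [IsNoetherianRing k] (hS : Smoothing.IndSmooth k A) : Module.Flat A (Ω[A⁄k]) := by
  classical
  refine Module.Flat.of_forall_isTrivialRelation fun {l f x} hfx => ?_
  choose g hg using fun i => linearCombination_surjective k A (x i)
  have hc : ∑ i, f i • g i ∈ kerTotal k A := by
    rw [← kerTotal_eq, LinearMap.mem_ker, map_sum, ← hfx]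
    exact Finset.sum_congr rfl fun i _ => by rw [map_smul, hg]
  obtain ⟨Tc, hTc⟩ := exists_finset_kerTotal _ hc
  let T : Finset A := Tc ∪ Finset.univ.image f ∪ Finset.univ.biUnion fun i => (g i).support ∪ (g i).support.image (g i)
  let D := Algebra.adjoin k (T : Set A)
  have hmem : ∀ a ∈ T, a ∈ D := fun a ha => Algebra.subset_adjoin ha
  obtain ⟨c', hc', hcc⟩ := hTc D fun a ha => hmem a (Finset.mem_union_left _ (Finset.mem_union_left _ ha))
  have hf : ∀ i, f i ∈ D := fun i =>
    hmem _ (Finset.mem_union_left _ (Finset.mem_union_right _ (Finset.mem_image_of_mem _ (Finset.mem_univ i))))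
  choose g' hg' using fun i => exists_extend D (g i)
    (fun a ha => hmem a (Finset.mem_union_right _ (Finset.mem_biUnion.2 ⟨i, Finset.mem_univ i, Finset.mem_union_left _ ha⟩)))
    (fun a => by
      by_cases ha : a ∈ (g i).support
      · exact hmem _ (Finset.mem_union_right _ (Finset.mem_biUnion.2
          ⟨i, Finset.mem_univ i, Finset.mem_union_right _ (Finset.mem_image_of_mem _ ha)⟩))
      · rw [Finsupp.notMem_support_iff.1 ha]; exact zero_mem D)
  have hrel : (∑ i, (⟨f i, hf i⟩ : D) • g' i) = c' := by
    refine extend_injective D (Eq.trans ?_ hcc.symm)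
    have : ∀ s : Finset (Fin l), extend D (∑ i ∈ s, (⟨f i, hf i⟩ : D) • g' i) = ∑ i ∈ s, f i • g i := fun s => by
      induction s using Finset.induction_on with
      | empty => simpa using extend_zero D
      | insert i s hi ih => rw [Finset.sum_insert hi, Finset.sum_insert hi, extend_add, extend_smul, ih, hg']
    exact this _
  haveI : Algebra.FiniteType k D := ⟨(D.fg_top).2 (Subalgebra.fg_adjoin_finset T)⟩
  obtain ⟨C, _, _, hC, φ, h, hφ⟩ := hS D (Algebra.FinitePresentation.of_finiteType.1 inferInstance) D.val
  letI : Algebra D C := φ.toRingHom.toAlgebra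
  letI : Algebra C A := h.toRingHom.toAlgebra
  haveI : IsScalarTower k D C := .of_algebraMap_eq fun r => (φ.commutes r).symm
  haveI : IsScalarTower k C A := .of_algebraMap_eq fun r => (h.commutes r).symm
  let μ := KaehlerDifferential.map k k D C
  let ν := KaehlerDifferential.map k k C A
  have hsmul : ∀ (a : C) (z : Ω[C⁄k]), ν (a • z) = h a • ν z := fun a z =>
    (ν.map_smul a z).trans (algebraMap_smul A a (ν z)).symm
  have hval : ∀ c : D →₀ D, ν (μ (Finsupp.linearCombination D (KaehlerDifferential.D k D) c)) =
      Finsupp.linearCombination A (KaehlerDifferential.D k A) (extend D c) := fun c => by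
    induction c using Finsupp.induction_linear with
    | zero => simp [extend_zero]
    | add a b ha hb => simp [extend_add, ha, hb]
    | single a b =>
      have h1 : ∀ d : D, h (φ d) = (d : A) := fun d => AlgHom.congr_fun hφ d
      rw [extend_single, Finsupp.linearCombination_single, Finsupp.linearCombination_single, μ.map_smul,
        map_D, ← algebraMap_smul C b, hsmul, map_D]
      show h (φ b) • KaehlerDifferential.D k A (h (φ a)) = _
      rw [h1, h1]
  haveI : Algebra.Smooth k C := hC
  haveI : Module.Flat C (Ω[C⁄k]) := Module.Flat.of_projective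
  have h0 : ∑ i, φ (⟨f i, hf i⟩ : D) • μ (Finsupp.linearCombination D (KaehlerDifferential.D k D) (g' i)) = 0 := by
    have h2 : Finsupp.linearCombination D (KaehlerDifferential.D k D) (∑ i, (⟨f i, hf i⟩ : D) • g' i) = 0 := by
      rw [hrel, ← LinearMap.mem_ker, kerTotal_eq]; exact hc'
    have h3 := congrArg μ h2
    rw [map_zero, map_sum, map_sum] at h3
    rw [← h3]
    exact Finset.sum_congr rfl fun i _ => by rw [map_smul, μ.map_smul]; exact algebraMap_smul C _ _
  obtain ⟨n, a, y, hy, ha⟩ := Module.Flat.isTrivialRelation_of_sum_smul_eq_zero h0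
  refine ⟨n, fun i j => h (a i j), fun j => ν (y j), fun i => ?_, fun j => ?_⟩
  · refine Eq.trans ?_ ((congrArg ν (hy i)).trans ((map_sum ν _ _).trans (Finset.sum_congr rfl fun j _ => hsmul _ _)))
    show x i = ν (μ (Finsupp.linearCombination D (KaehlerDifferential.D k D) (g' i)))
    rw [hval, hg', hg]
  · have h4 := congrArg h (ha j)
    rw [map_sum, map_zero] at h4
    rw [← h4]
    refine Finset.sum_congr rfl fun i _ => ?_
    rw [map_mul, show h (φ ⟨f i, hf i⟩) = f i from AlgHom.congr_fun hφ ⟨f i, hf i⟩]

end Groth.Agent.OmegaFlat
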